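import Mathlib

set_option autoImplicit false
universe u

namespace Groth.Agent.H7

/-- An abelian group of finite exponent having a nonzero element contained in every nonzero
subgroup is finite. -/
theorem finite_of_exponent_of_mem_every_subgroup_aux :
    ∀ (e : ℕ) {A : Type u} [AddCommGroup A], AddMonoid.exponent A = e → e ≠ 0 →
      ∀ (a : A), a ≠ 0 → (∀ B : AddSubgroup A, B ≠ ⊥ → a ∈ B) → Finite A := by
  intro e
  induction e using Nat.strong_induction_on with
  | _ e ih =>
  intro A _ hexp he a ha h
  -- the n-torsion subgroups for 0 < n < e are finite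
  have htors : ∀ n : ℕ, 0 < n → n < e → Finite ((nsmulAddMonoidHom n : A →+ A).ker) := by
    intro n hn hne
    set K := (nsmulAddMonoidHom n : A →+ A).ker with hK
    by_cases hKbot : K = ⊥
    · rw [hKbot]; infer_instance
    · have haK : a ∈ K := h K hKbot
      have hdvd : AddMonoid.exponent K ∣ n := by
        apply AddMonoid.exponent_dvd_of_forall_nsmul_eq_zero
        intro x
        apply Subtype.ext
        have hx2 : (x : A) ∈ (nsmulAddMonoidHom n : A →+ A).ker := x.2
        rw [AddMonoidHom.mem_ker] at hx2
        simpa using hx2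
      have hle : AddMonoid.exponent K ≤ n := Nat.le_of_dvd hn hdvd
      have hne0 : AddMonoid.exponent K ≠ 0 := by
        intro h0
        rw [h0, zero_dvd_iff] at hdvd
        omega
      refine ih (AddMonoid.exponent K) (lt_of_le_of_lt hle hne) rfl hne0 ⟨a, haK⟩ ?_ ?_
      · intro h0
        exact ha (congrArg Subtype.val h0)
      · intro B hB
        have hB' : B.map K.subtype ≠ ⊥ := by
          intro h0
          apply hB
          rw [AddSubgroup.map_eq_bot_iff_of_injective _ K.subtype_injective] at h0
          exact h0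
        obtain ⟨y, hy, hya⟩ := h _ hB'
        have : y = ⟨a, haK⟩ := Subtype.ext hya
        rw [← this]; exact hy
  -- every nonzero x satisfies n • x = a for some 0 < n < e
  have hcover : ∀ x : A, x ≠ 0 → ∃ n : ℕ, 0 < n ∧ n < e ∧ n • x = a := by
    intro x hx
    have hmem : a ∈ AddSubgroup.zmultiples x := by
      apply h
      intro h0
      apply hx
      have : x ∈ AddSubgroup.zmultiples x := AddSubgroup.mem_zmultiples x
      rw [h0] at this
      exact this
    obtain ⟨k, hk⟩ := AddSubgroup.mem_zmultiples_iff.mp hmem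
    have hepos : (0 : ℤ) < e := by exact_mod_cast Nat.pos_of_ne_zero he
    have hex : (e : ℤ) • x = 0 := by
      rw [natCast_zsmul, ← hexp]; exact AddMonoid.exponent_nsmul_eq_zero x
    have hk' : (k % e) • x = a := by
      have : k % e = k - e * (k / e) := by
        have := Int.emod_add_mul_ediv k e
        linarith
      rw [this, sub_zsmul, hk, mul_comm, mul_zsmul, hex, smul_zero]
      simp
    have hnonneg : 0 ≤ k % e := Int.emod_nonneg k (by omega)
    have hlt : k % e < e := Int.emod_lt_of_pos k hepos
    refine ⟨(k % e).toNat, ?_, ?_, ?_⟩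
    · rcases Nat.eq_zero_or_pos (k % e).toNat with h0 | hpos
      · exfalso
        have : k % e = 0 := by omega
        rw [this, zero_zsmul] at hk'
        exact ha hk'.symm
      · exact hpos
    · omega
    · rw [← natCast_zsmul, Int.toNat_of_nonneg hnonneg, hk']
  -- conclude
  rw [← Set.finite_univ_iff]
  have hsub : (Set.univ : Set A) ⊆ {0} ∪ ⋃ n ∈ Finset.Ioo 0 e, {x : A | n • x = a} := by
    intro x _
    by_cases hx : x = 0
    · left; exact hx
    · right
      obtain ⟨n, hn0, hne, hn⟩ := hcover x hx
      simp only [Set.mem_iUnion]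
      exact ⟨n, Finset.mem_Ioo.mpr ⟨hn0, hne⟩, hn⟩
  refine Set.Finite.subset ?_ hsub
  refine (Set.finite_singleton 0).union ?_
  refine Set.Finite.biUnion (Finset.finite_toSet _) ?_
  intro n hn
  have hn' := Finset.mem_Ioo.mp hn
  by_cases hemp : {x : A | n • x = a} = ∅
  · rw [hemp]; exact Set.finite_empty
  · obtain ⟨x₀, hx₀⟩ := Set.nonempty_iff_ne_empty.mpr hemp
    have hfin := htors n hn'.1 hn'.2
    have : {x : A | n • x = a} ⊆ (fun y : (nsmulAddMonoidHom n : A →+ A).ker => x₀ + y) '' Set.univ := by
      intro x hx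
      refine ⟨⟨x - x₀, ?_⟩, trivial, by simp⟩
      rw [AddMonoidHom.mem_ker]
      simp only [nsmulAddMonoidHom_apply]
      rw [smul_sub, hx, hx₀, sub_self]
    exact Set.Finite.subset (Set.toFinite _) this

theorem finite_of_exponent_of_mem_every_subgroup {A : Type u} [AddCommGroup A]
    (hA : AddMonoid.exponent A ≠ 0) (a : A) (ha : a ≠ 0) (h : ∀ B : AddSubgroup A, B ≠ ⊥ → a ∈ B) :
    Finite A :=
  finite_of_exponent_of_mem_every_subgroup_aux _ rfl hA a ha h

end Groth.Agent.H7
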